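import Cfsg.Agent.H599.IdxG2
import Cfsg.Agent.H934.OutCl
import Cfsg.Agent.S0252
import Cfsg.Agent.S0254
import Cfsg.Agent.S0806
import Cfsg.Agent.S2480
import Cfsg.Agent.S0280
import Cfsg.Agent.S2481
import Cfsg.Agent.OddHalf.MM.Main_m3
import Cfsg.Agent.S2482
import Cfsg.Agent.S2557
import Mathlib
import Cfsg.Agent.H934.IdxTwD4
import Cfsg.Agent.S1067
import Cfsg.Agent.S2129
import Cfsg.Agent.Prune
set_option linter.all false

section
prune_inst 0x7f00000000000000000000000000000000000000000000000000000000000000000000000000000000000000000000000000000000000000000000000000000000000000000000000000000000000000003fffffffffffffffffffffffffffbeffbdffffffff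

-- part: H539/RowPSL_mg
section
set_option linter.all false
open scoped Cfsg.Agent.FastGrp

-- part: H539/RowPSL
section
set_option autoImplicit false

/-!
# `IdxOK` for the groups `PSL_n(q)`
-/

namespace Cfsg.Agent.H539.RowPSL

open Cfsg.Agent.H540.ClassNum Cfsg.Agent.H934.OutB Cfsg.Agent.H934.OutCl Matrix

/-- from `d o = |Out|`, `d k ≤ B` -/
theorem of_mul {T : Type*} [Group T] {d o B b : ℕ}
    (ho : Nat.card (Cfsg.Out T) = o * d) (hk : d * Nat.card (ConjClasses T) ≤ B)
    (hb : ∀ K : Subgroup T, K ≠ ⊤ → b ≤ K.index) (h : o * B ≤ 2 ^ (b - 1)) : IdxOK T := by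
  intro K hK
  rw [ho, mul_assoc]
  refine (Nat.mul_le_mul_left _ hk).trans (h.trans ?_)
  exact Nat.pow_le_pow_right (by norm_num) (Nat.sub_le_sub_right (hb K hK) 1)

/-! ### arithmetic -/

theorem lin_le {f : ℕ} (hf : 1 ≤ f) {p : ℕ} (hp : 2 ≤ p) : f * 2 ≤ p ^ f := by
  calc f * 2 ≤ 2 ^ f := by
        obtain ⟨k, rfl⟩ : ∃ k, f = k + 1 := ⟨f - 1, by omega⟩
        rw [pow_succ]
        have : k < 2 ^ k := Nat.lt_two_pow_self
        omega
    _ ≤ p ^ f := Nat.pow_le_pow_left hp f

theorem num_two {p f q : ℕ} (hp : 2 ≤ p) (hf : 1 ≤ f) (hq : q = p ^ f) (h8 : 8 ≤ q) :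
    f * (q ^ (2 - 1) + 5 * q ^ (2 - 2)) ≤ 2 ^ (q + 1 - 1) := by
  have h1 := lin_le hf hp
  rw [← hq] at h1
  have h2 : q ^ (2 - 1) + 5 * q ^ (2 - 2) = q + 5 := by norm_num
  rw [h2, Nat.add_sub_cancel]
  have h3 : ∀ m, 8 ≤ m → m * (m + 5) ≤ 2 * 2 ^ m := by
    intro m hm
    induction m, hm using Nat.le_induction with
    | base => norm_num
    | succ m hm ih => rw [pow_succ]; nlinarith only [hm, ih]
  have h4 := h3 q h8
  have h5 : f * 2 * (q + 5) ≤ q * (q + 5) := Nat.mul_le_mul_right _ h1
  have h6 : f * 2 * (q + 5) = 2 * (f * (q + 5)) := by ring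
  omega

theorem cube_le {m : ℕ} (hm : 8 ≤ m) : 49 * m ^ 3 ≤ 4 ^ m := by
  induction m, hm using Nat.le_induction with
  | base => norm_num
  | succ m hm ih =>
    rw [pow_succ 4]
    have h1 : (m + 1) ^ 3 ≤ 4 * m ^ 3 := by nlinarith [Nat.mul_le_mul hm hm]
    omega

/-- `2 f (q^(n-1) + 5 q^(n-2)) ≤ 2 ^ (q^(n-1) - 1)` unless `q = 2`, `n = 3`. -/
theorem num_ge_three {p f q n : ℕ} (hp : 2 ≤ p) (hf : 1 ≤ f) (hq : q = p ^ f) (hn : 3 ≤ n)
    (h8 : 8 ≤ q ^ (n - 1)) :
    2 * f * (q ^ (n - 1) + 5 * q ^ (n - 2)) ≤ 2 ^ (q ^ (n - 1) - 1) := by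
  have h1 := lin_le hf hp
  rw [← hq] at h1
  have hq2 : 2 ≤ q := by omega
  obtain ⟨k, rfl⟩ : ∃ k, n = k + 3 := ⟨n - 3, by omega⟩
  have e1 : k + 3 - 1 = k + 2 := by omega
  have e2 : k + 3 - 2 = k + 1 := by omega
  rw [e1] at h8 ⊢
  rw [e2]
  have h2 : 2 * q ^ (k + 1) ≤ q ^ (k + 2) := by
    rw [pow_succ q (k + 1), mul_comm]
    exact Nat.mul_le_mul_left _ hq2
  have h3 : q ^ 2 ≤ q ^ (k + 2) := Nat.pow_le_pow_right (by omega) (by omega)
  set N := q ^ (k + 2) with hN
  set M := q ^ (k + 1) with hM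
  have h4 : 7 * q * N ≤ 2 ^ N := by
    rw [← Nat.pow_le_pow_iff_left (n := 2) (by norm_num)]
    calc (7 * q * N) ^ 2 = 49 * (q ^ 2) * N ^ 2 := by ring
      _ ≤ 49 * N * N ^ 2 := Nat.mul_le_mul_right _ (Nat.mul_le_mul_left _ h3)
      _ = 49 * N ^ 3 := by ring
      _ ≤ 4 ^ N := cube_le h8
      _ = (2 ^ N) ^ 2 := by rw [← pow_mul, mul_comm, pow_mul]; norm_num
  have h5 : 2 ^ N = 2 * 2 ^ (N - 1) := by
    rw [← pow_succ', Nat.sub_add_cancel (by omega)]
  have h6 : 2 * (2 * f * (N + 5 * M)) ≤ 7 * q * N := by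
    calc 2 * (2 * f * (N + 5 * M)) = (f * 2) * (2 * N + 5 * (2 * M)) := by ring
      _ ≤ q * (2 * N + 5 * N) := Nat.mul_le_mul h1 (by omega)
      _ = 7 * q * N := by ring
  omega

/-! ### the rows -/

variable {F : Type} [Field F] [Fintype F]

theorem two (h4 : 4 ≤ Fintype.card F) (hs : IsSimpleGroup (ProjectiveSpecialLinearGroup (Fin 2) F))
    (hna : ¬ IsMulCommutative (ProjectiveSpecialLinearGroup (Fin 2) F)) :
    IdxOK (ProjectiveSpecialLinearGroup (Fin 2) F) := by
  obtain ⟨p, f, hp, hf, hF⟩ := exists_pf F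
  have := Fact.mk hp
  have := finite_psl (F := F) 2
  by_cases hq4 : Fintype.card F = 4
  · obtain ⟨e⟩ := S0252.result hq4
    exact (IdxAlt.main (n := 5) le_rfl).congr e.symm
  by_cases hq9 : Fintype.card F = 9
  · obtain ⟨e⟩ := S0254.result hq9
    exact (IdxAlt.main (n := 6) (by norm_num)).congr e.symm
  have h1 := Cfsg.Agent.S0813.result (F := F) p f hf hF 2 (by omega) (fun _ => by rw [← hF]; exact h4)
  rw [if_pos rfl, card_pgl (by omega), ← mul_assoc, one_mul] at h1
  have h2 := card_out_of_aut hna h1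
  have h3 := (S2480.result (F := F) 2 le_rfl).2
  by_cases hf1 : Fintype.card F = 5 ∨ Fintype.card F = 7 ∨ Fintype.card F = 11
  · -- prime fields
    have hf1' : f = 1 := by
      by_contra hne
      have h5 : p ^ 2 ∣ p ^ f := pow_dvd_pow p (by omega)
      rw [← hF] at h5
      have h6 : p ∣ Fintype.card F := (dvd_pow_self p (by norm_num)).trans h5
      rcases hf1 with h | h | h <;> rw [h] at h5 h6
      · rw [(Nat.prime_dvd_prime_iff_eq hp (by norm_num)).1 h6] at h5; omega
      · rw [(Nat.prime_dvd_prime_iff_eq hp (by norm_num)).1 h6] at h5; omega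
      · rw [(Nat.prime_dvd_prime_iff_eq hp (by norm_num)).1 h6] at h5; omega
    refine of_mul h2 h3 (fun K hK => SmallSimple.Embed.five_le_index hna K hK) ?_
    rw [hf1']
    rcases hf1 with h | h | h <;> rw [h] <;> norm_num
  · push Not at hf1
    have hq : Fintype.card F ∉ ({2, 3, 5, 7, 9, 11} : Finset ℕ) := by
      simp only [Finset.mem_insert, Finset.mem_singleton]
      omega
    have h8 : 8 ≤ Fintype.card F := by
      by_contra hcon
      have h6 : Fintype.card F = 6 := by omega
      rw [h6] at hF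
      have h7 : p ∣ 6 := by rw [hF]; exact dvd_pow_self p (by omega)
      have h2' : 2 ∣ p ^ f := by rw [← hF]; norm_num
      have h3' : 3 ∣ p ^ f := by rw [← hF]; norm_num
      have h2'' := (Nat.prime_dvd_prime_iff_eq Nat.prime_two hp).1 (Nat.prime_two.dvd_of_dvd_pow h2')
      have h3'' := (Nat.prime_dvd_prime_iff_eq Nat.prime_three hp).1 (Nat.prime_three.dvd_of_dvd_pow h3')
      omega
    exact of_mul h2 h3 (S0806.result rfl hq).1 (num_two hp.two_le hf hF h8)

theorem ge_three {n : ℕ} (hn : 3 ≤ n) (hs : IsSimpleGroup (ProjectiveSpecialLinearGroup (Fin n) F))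
    (hna : ¬ IsMulCommutative (ProjectiveSpecialLinearGroup (Fin n) F)) :
    IdxOK (ProjectiveSpecialLinearGroup (Fin n) F) := by
  obtain ⟨p, f, hp, hf, hF⟩ := exists_pf F
  have := Fact.mk hp
  have := finite_psl (F := F) n
  have h1 := Cfsg.Agent.S0813.result (F := F) p f hf hF n (by omega) (by omega)
  rw [if_neg (by omega), card_pgl (by omega), ← mul_assoc] at h1
  have h2 := card_out_of_aut hna h1
  have h3 := (S2480.result (F := F) n (by omega)).2
  have hq2 : 2 ≤ Fintype.card F := Fintype.one_lt_card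
  by_cases h8 : 8 ≤ Fintype.card F ^ (n - 1)
  · refine of_mul h2 h3 (b := Fintype.card F ^ (n - 1)) (fun K hK => ?_)
      (num_ge_three hp.two_le hf hF hn h8)
    have h4 := H934.IdxCl.psl (ι := Fin n) (F := F) (by rwa [Fintype.card_fin]) hs K hK
    rwa [Fintype.card_fin] at h4
  · -- `PSL_3(2)`
    have hq : Fintype.card F = 2 := by
      by_contra hne
      apply h8
      calc 8 ≤ 3 ^ 2 := by norm_num
        _ ≤ Fintype.card F ^ 2 := Nat.pow_le_pow_left (by omega) 2
        _ ≤ _ := Nat.pow_le_pow_right (by omega) (by omega)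
    have hn3 : n = 3 := by
      by_contra hne
      apply h8
      rw [hq]
      calc 8 = 2 ^ 3 := by norm_num
        _ ≤ _ := Nat.pow_le_pow_right (by omega) (by omega)
    subst hn3
    have hf1 : f = 1 := by
      rw [hq] at hF
      have h5 : p ∣ 2 := by rw [hF]; exact dvd_pow_self p (by omega)
      have h6 := (Nat.prime_dvd_prime_iff_eq hp Nat.prime_two).1 h5
      subst h6
      have h7 : 2 ^ 1 = 2 ^ f := by rw [← hF, pow_one]
      exact (Nat.pow_right_injective le_rfl h7).symm
    refine of_mul h2 h3 (b := 6) (fun K hK => ?_) ?_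
    · have h5 := SmallSimple.Embed.two_mul_card_dvd_factorial_index hna K hK
      have h6 := S0243.result (F := F) hq 3 (by norm_num)
      have h7 : Nat.card (ProjectiveSpecialLinearGroup (Fin 3) F) = 168 := by
        rw [Fin.prod_univ_three] at h6
        norm_num only [_root_.one_mul, _root_.Fin.coe_ofNat_eq_mod, _root_.pow_zero, _root_.Nat.add_one_sub_one, _root_.pow_one] at h6
        exact h6
      rw [h7] at h5
      by_contra hcon
      push Not at hcon
      have h8 : K.index.factorial ∣ Nat.factorial 5 := Nat.factorial_dvd_factorial (by omega)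
      have h9 := Nat.le_of_dvd (Nat.factorial_pos 5) (h5.trans h8)
      have h10 : Nat.factorial 5 = 120 := rfl
      omega
    · rw [hf1, hq]
      norm_num

theorem row : RowOf (fun T _ => Cfsg.IsPSL T) := by
  rintro T _ _ _ hT ⟨F, _, _, n, hn, h4, ⟨e⟩⟩
  have hs : IsSimpleGroup (ProjectiveSpecialLinearGroup (Fin n) F) :=
    (MulEquiv.isSimpleGroup_congr e).1 inferInstance
  have hna : ¬ IsMulCommutative (ProjectiveSpecialLinearGroup (Fin n) F) := by
    intro h
    apply hT
    refine ⟨⟨fun a b => ?_⟩⟩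
    apply e.injective
    rw [map_mul, map_mul]
    exact h.is_comm.comm _ _
  refine IdxOK.congr ?_ e.symm
  rcases hn.eq_or_lt with rfl | hn
  · exact two (h4 rfl) hs hna
  · exact ge_three hn hs hna

end Cfsg.Agent.H539.RowPSL
end

-- part: H539/RowPSU
section
set_option autoImplicit false

/-!
# `IdxOK` for the groups `PSU_n(q)`
-/

namespace Cfsg.Agent.H539.RowPSU

open Cfsg.Agent.H540.ClassNum Cfsg.Agent.H934.OutB Cfsg.Agent.H934.OutCl Matrix

theorem lin_le {f : ℕ} (hf : 1 ≤ f) {p : ℕ} (hp : 2 ≤ p) : f * 2 ≤ p ^ f := by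
  calc f * 2 ≤ 2 ^ f := by
        obtain ⟨k, rfl⟩ : ∃ k, f = k + 1 := ⟨f - 1, by omega⟩
        rw [pow_succ]
        have : k < 2 ^ k := Nat.lt_two_pow_self
        omega
    _ ≤ p ^ f := Nat.pow_le_pow_left hp f

theorem sq_le {m : ℕ} (hm : 16 ≤ m) : 2478 * m ^ 2 ≤ 100 * 2 ^ m := by
  induction m, hm using Nat.le_induction with
  | base => norm_num
  | succ m hm ih =>
    rw [pow_succ 2]
    have h1 : (m + 1) ^ 2 ≤ 2 * m ^ 2 := by nlinarith
    omega

/-- generic case -/
theorem num {p f q n o k : ℕ} (hp : 2 ≤ p) (hf : 1 ≤ f) (hq : q = p ^ f) (hn : 3 ≤ n)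
    (ho : o = Nat.gcd n (q + 1) * (2 * f)) (hk : 100 * k ≤ 826 * q ^ (n - 1))
    (h16 : 16 ≤ q ^ (n - 1)) : o * k ≤ 2 ^ (q ^ (n - 1) - 1) := by
  have h1 := lin_le hf hp
  rw [← hq] at h1
  have hq2 : 2 ≤ q := by omega
  have hg : Nat.gcd n (q + 1) ≤ q + 1 := Nat.gcd_le_right _ (by omega)
  have h2 : q ^ 2 ≤ q ^ (n - 1) := Nat.pow_le_pow_right (by omega) (by omega)
  set N := q ^ (n - 1) with hN
  have h3 : 2 * o ≤ 3 * N := by
    have h4 : o ≤ (q + 1) * q := by
      rw [ho]
      exact Nat.mul_le_mul hg (by omega)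
    nlinarith only [h16, h2, h4]
  have h5 : 200 * (o * k) ≤ 2478 * N ^ 2 := by
    calc 200 * (o * k) = (2 * o) * (100 * k) := by ring
      _ ≤ (3 * N) * (826 * N) := Nat.mul_le_mul h3 hk
      _ = 2478 * N ^ 2 := by ring
  have h6 := sq_le h16
  have h7 : 2 ^ N = 2 * 2 ^ (N - 1) := by
    rw [← pow_succ', Nat.sub_add_cancel (by omega)]
  omega

variable {F : Type} [Field F] [Fintype F]

theorem main {n q : ℕ} (hF : Fintype.card F = q ^ 2) (hn : 3 ≤ n) (h32 : ¬ (n = 3 ∧ q = 2))
    (hs : IsSimpleGroup (Cfsg.PSU n F q)) (hna : ¬ IsMulCommutative (Cfsg.PSU n F q)) :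
    IdxOK (Cfsg.PSU n F q) := by
  obtain ⟨p, f', hp, hf', hF'⟩ := exists_pf F
  have := Fact.mk hp
  obtain ⟨f, -, hq⟩ : ∃ f ≤ f', q = p ^ f := (Nat.dvd_prime_pow hp).1 (by
    rw [← hF', hF]; exact dvd_pow_self q (by norm_num))
  have hf : 1 ≤ f := by
    by_contra h0
    have : f = 0 := by omega
    subst this
    rw [hq, pow_zero, one_pow] at hF
    have := Fintype.one_lt_card (α := F)
    omega
  have : Finite (Cfsg.PSU n F q) := inferInstance
  have h1 := Cfsg.Agent.S0815.result (F := F) p f hf hq hF n hn h32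
  have h2 := card_out_of_aut hna h1
  have hk0 : Nat.card (ConjClasses (Cfsg.PSU n F q)) ≤ Nat.card (ConjClasses (Cfsg.SU n F q)) :=
    card_conjClasses_le_of_surjective (QuotientGroup.mk' _) (QuotientGroup.mk'_surjective _)
  have hk : 100 * Nat.card (ConjClasses (Cfsg.PSU n F q)) ≤ 826 * q ^ (n - 1) :=
    (Nat.mul_le_mul_left _ hk0).trans (S2481.result (F := F) n q (by omega) hF).2
  have hidx : ∀ K : Subgroup (Cfsg.PSU n F q), K ≠ ⊤ → q ^ (n - 1) ≤ K.index := fun K hK =>
    H934.IdxPSU.pow_le_index hF hn (MulEquiv.refl _) K hK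
  have hq2 : 2 ≤ q := by
    rw [hq]
    exact hp.two_le.trans (Nat.le_self_pow (by omega) _)
  have hf2 := lin_le hf hp.two_le
  rw [← hq] at hf2
  by_cases h16 : 16 ≤ q ^ (n - 1)
  · intro K hK
    refine (num hp.two_le hf hq hn h2 hk h16).trans ?_
    exact Nat.pow_le_pow_right (by norm_num) (Nat.sub_le_sub_right (hidx K hK) 1)
  · push Not at h16
    have hq3 : q ≤ 3 := by
      by_contra hcon
      have : 4 ^ 2 ≤ q ^ (n - 1) := (Nat.pow_le_pow_left (by omega) 2).trans
        (Nat.pow_le_pow_right (by omega) (by omega))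
      omega
    have hf1 : f = 1 := by omega
    subst hf1
    interval_cases q
    · -- `q = 2`
      have hn4 : n = 4 := by
        have h3 : n ≤ 4 := by
          by_contra hcon
          have : 2 ^ 4 ≤ 2 ^ (n - 1) := Nat.pow_le_pow_right (by norm_num) (by omega)
          omega
        have h4 : n ≠ 3 := fun h => h32 ⟨h, rfl⟩
        omega
      subst hn4
      refine IdxOK.of_k (o := 2) (k := 66) (b := 9) (by rw [h2]; norm_num) (by norm_num at hk; omega)
        (fun K hK => ?_) (by norm_num)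
      have h5 := SmallSimple.Embed.two_mul_card_dvd_factorial_index hna K hK
      have h6 := S0280.result (F := F) hF 4 (by norm_num)
      have h7 : Nat.card (Cfsg.PSU 4 F 2) = 25920 := by
        simp only [Finset.prod_range_succ, Finset.prod_range_zero] at h6
        norm_num only [Nat.even_iff, _root_.one_mul, _root_.ite_true, _root_.ite_false] at h6
        omega
      rw [h7] at h5
      by_contra hcon
      push Not at hcon
      have h8 : K.index.factorial ∣ Nat.factorial 8 := Nat.factorial_dvd_factorial (by omega)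
      have h9 := h5.trans h8
      revert h9
      decide
    · -- `q = 3`
      have hn3 : n = 3 := by
        by_contra hne
        have : 3 ^ 3 ≤ 3 ^ (n - 1) := Nat.pow_le_pow_right (by norm_num) (by omega)
        omega
      subst hn3
      exact IdxOK.of_k (o := 2) (k := 74) (b := 9) (by rw [h2]; norm_num)
        (by norm_num at hk; omega) hidx (by norm_num)

theorem row : RowOf (fun T _ => Cfsg.IsPSU T) := by
  rintro T _ _ _ hT ⟨F, _, _, n, q, hF, hn, h32, ⟨e⟩⟩
  have hs : IsSimpleGroup (Cfsg.PSU n F q) := (MulEquiv.isSimpleGroup_congr e).1 inferInstance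
  have hna : ¬ IsMulCommutative (Cfsg.PSU n F q) := by
    intro h
    apply hT
    refine ⟨⟨fun a b => ?_⟩⟩
    apply e.injective
    rw [map_mul, map_mul]
    exact h.is_comm.comm _ _
  exact (main hF hn h32 hs hna).congr e.symm

end Cfsg.Agent.H539.RowPSU
end

-- part: H539/RowPSp
section
set_option autoImplicit false

/-!
# `IdxOK` for the groups `PSp_2m(q)`
-/

namespace Cfsg.Agent.H539.RowPSp

open Cfsg.Agent.H540.ClassNum Cfsg.Agent.H934.OutB Cfsg.Agent.H934.OutCl Matrix
  Cfsg.Agent.OddHalf.Orders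

theorem lin_le {f : ℕ} (hf : 1 ≤ f) {p : ℕ} (hp : 2 ≤ p) : f * 2 ≤ p ^ f := by
  calc f * 2 ≤ 2 ^ f := by
        obtain ⟨k, rfl⟩ : ∃ k, f = k + 1 := ⟨f - 1, by omega⟩
        rw [pow_succ]
        have : k < 2 ^ k := Nat.lt_two_pow_self
        omega
    _ ≤ p ^ f := Nat.pow_le_pow_left hp f

/-- index bound from divisibility -/
theorem idx_of_card {T : Type*} [Group T] [Finite T] [IsSimpleGroup T]
    (hna : ¬ IsMulCommutative T) {c b : ℕ} (hc : Nat.card T = c)
    (h : ¬ 2 * c ∣ (b - 1).factorial) (K : Subgroup T) (hK : K ≠ ⊤) : b ≤ K.index := by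
  by_contra hcon
  push Not at hcon
  apply h
  have h1 := SmallSimple.Embed.two_mul_card_dvd_factorial_index hna K hK
  rw [hc] at h1
  exact h1.trans (Nat.factorial_dvd_factorial (by omega))

/-! ### arithmetic -/

theorem sq_le {m : ℕ} (hm : 16 ≤ m) : 54 * m ^ 2 ≤ 5 * 2 ^ (m - 1) := by
  induction m, hm using Nat.le_induction with
  | base => norm_num
  | succ m hm ih =>
    have e : m + 1 - 1 = (m - 1) + 1 := by omega
    rw [e, pow_succ 2]
    have h1 : (m + 1) ^ 2 ≤ 2 * m ^ 2 := by nlinarith only [hm]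
    omega

theorem sq_le' {m : ℕ} (hm : 13 ≤ m) : 108 * m ^ 2 ≤ 5 * 2 ^ (m - 1) := by
  induction m, hm using Nat.le_induction with
  | base => norm_num
  | succ m hm ih =>
    have e : m + 1 - 1 = (m - 1) + 1 := by omega
    rw [e, pow_succ 2]
    have h1 : (m + 1) ^ 2 ≤ 2 * m ^ 2 := by nlinarith only [hm]
    omega

theorem cube_le {m : ℕ} (hm : 24 ≤ m) : 76 * m ^ 3 ≤ 5 * 2 ^ (m - 1) := by
  induction m, hm using Nat.le_induction with
  | base => norm_num
  | succ m hm ih =>
    have e : m + 1 - 1 = (m - 1) + 1 := by omega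
    rw [e, pow_succ 2]
    have h1 : (m + 1) ^ 3 ≤ 2 * m ^ 3 := by nlinarith only [Nat.mul_le_mul hm hm]
    omega

/-- `m ≥ 3`, `q^(m-1) ≥ 16` -/
theorem num_ge {q m o k c : ℕ} (hm : 2 ≤ m) (ho : o * c ≤ 54 * q)
    (hk : 5 * k ≤ c * q ^ m) (h2 : q ^ 2 ≤ q ^ (m - 1)) (h16 : 16 ≤ q ^ (m - 1)) :
    o * k ≤ 2 ^ (q ^ (m - 1) - 1) := by
  have h1 := sq_le h16
  have e : q ^ m = q * q ^ (m - 1) := by
    rw [← pow_succ', Nat.sub_add_cancel (by omega)]
  have h3 : 5 * (o * k) ≤ 54 * (q ^ (m - 1)) ^ 2 := by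
    calc 5 * (o * k) = o * (5 * k) := by ring
      _ ≤ o * (c * q ^ m) := Nat.mul_le_mul_left _ hk
      _ = (o * c) * (q * q ^ (m - 1)) := by rw [e]; ring
      _ ≤ (54 * q) * (q * q ^ (m - 1)) := Nat.mul_le_mul_right _ ho
      _ = 54 * (q ^ 2 * q ^ (m - 1)) := by ring
      _ ≤ 54 * (q ^ (m - 1) * q ^ (m - 1)) :=
          Nat.mul_le_mul_left _ (Nat.mul_le_mul_right _ h2)
      _ = _ := by ring
  omega

variable {F : Type} [Field F] [Fintype F]

theorem card_out_le {m p f : ℕ} (hp : p.Prime) (hF : Fintype.card F = p ^ f)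
    (h : Nat.card (Cfsg.Out (Cfsg.PSp m F)) =
      (if m = 2 ∧ p = 2 then 2 else 1) * Nat.gcd 2 (p ^ f - 1) * f) (hf : 1 ≤ f) :
    Nat.card (Cfsg.Out (Cfsg.PSp m F)) ≤ 2 * f ∧
      (p = 2 → m ≠ 2 → Nat.card (Cfsg.Out (Cfsg.PSp m F)) ≤ f) := by
  have hodd : p = 2 → Nat.gcd 2 (p ^ f - 1) = 1 := by
    rintro rfl
    have h6 : Odd (2 ^ f - 1) := by
      obtain ⟨k, rfl⟩ : ∃ k, f = k + 1 := ⟨f - 1, by omega⟩
      have : 0 < 2 ^ k := by positivity
      rw [pow_succ]
      exact ⟨2 ^ k - 1, by omega⟩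
    exact Nat.coprime_two_left.2 h6
  rw [h]
  constructor
  · apply Nat.mul_le_mul_right
    split_ifs with h'
    · rw [hodd h'.2]
    · rw [one_mul]
      exact Nat.gcd_le_left _ (by norm_num)
  · intro hp2 hm2
    rw [if_neg (fun h => hm2 h.1), hodd hp2, one_mul, one_mul]

theorem special {m : ℕ} (hm : 1 ≤ m) (hs : IsSimpleGroup (Cfsg.PSp m F))
    (hna : ¬ IsMulCommutative (Cfsg.PSp m F)) {q o k b : ℕ} (hq : Fintype.card F = q)
    (ho : Nat.card (Cfsg.Out (Cfsg.PSp m F)) ≤ o)
    (hk : Nat.card (ConjClasses (Cfsg.PSp m F)) ≤ k)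
    (hb : ¬ 2 * (sp m q / spDen q) ∣ (b - 1).factorial) (hn : o * k ≤ 2 ^ (b - 1)) :
    IdxOK (Cfsg.PSp m F) := by
  have : Finite (symplecticGroup (Fin m) F) := Subtype.finite
  have : Finite (Cfsg.PSp m F) := inferInstance
  have h1 := card_psp (F := F) m hm
  rw [hq] at h1
  have h2 : 0 < spDen q := Nat.gcd_pos_of_pos_left _ (by norm_num)
  have h3 : Nat.card (Cfsg.PSp m F) = sp m q / spDen q := by
    rw [← h1, Nat.mul_div_cancel_left _ h2]
  exact IdxOK.of_k ho hk (idx_of_card hna h3 hb) hn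

theorem main {m : ℕ} (hm : 2 ≤ m) (h3 : m = 2 → 3 ≤ Fintype.card F)
    (hs : IsSimpleGroup (Cfsg.PSp m F)) (hna : ¬ IsMulCommutative (Cfsg.PSp m F)) :
    IdxOK (Cfsg.PSp m F) := by
  obtain ⟨p, f, hp, hf, hF⟩ := exists_pf F
  have := Fact.mk hp
  have : Finite (symplecticGroup (Fin m) F) := Subtype.finite
  have : Finite (Cfsg.PSp m F) := inferInstance
  have h1 := Cfsg.Agent.S0814.result (F := F) p f hf hF m hm (by rwa [hF] at h3)
  obtain ⟨ho, ho'⟩ := card_out_le (m := m) hp hF (card_out_of_aut hna h1) hf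
  have hk0 : Nat.card (ConjClasses (Cfsg.PSp m F)) ≤
      Nat.card (ConjClasses (symplecticGroup (Fin m) F)) :=
    card_conjClasses_le_of_surjective (QuotientGroup.mk' _) (QuotientGroup.mk'_surjective _)
  have hidx : ∀ K : Subgroup (Cfsg.PSp m F), K ≠ ⊤ → Fintype.card F ^ (m - 1) ≤ K.index :=
    fun K hK => H934.IdxCl.psp hm hs K hK
  have hq2 : 2 ≤ Fintype.card F := Fintype.one_lt_card
  have hf2 := lin_le hf hp.two_le
  rw [← hF] at hf2
  have fin : ∀ {b : ℕ}, (∀ K : Subgroup (Cfsg.PSp m F), K ≠ ⊤ → b ≤ K.index) →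
      Nat.card (Cfsg.Out (Cfsg.PSp m F)) * Nat.card (ConjClasses (Cfsg.PSp m F)) ≤ 2 ^ (b - 1) →
      IdxOK (Cfsg.PSp m F) := fun hb h => IdxOK.of_k le_rfl le_rfl hb h
  rcases hp.eq_two_or_odd' with hp2 | hpo
  · -- `q` even
    have heven : Even (Fintype.card F) := by
      rw [hF, hp2]
      exact (Nat.even_pow.2 ⟨even_two, by omega⟩)
    have hk : 5 * Nat.card (ConjClasses (Cfsg.PSp m F)) ≤ 76 * Fintype.card F ^ m :=
      (Nat.mul_le_mul_left _ hk0).trans (S2557.result (F := F) heven m (by omega)).2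
    rcases hm.eq_or_lt with rfl | hm3
    · -- `m = 2`
      have hq3 := h3 rfl
      have hf2' : 2 ≤ f := by
        by_contra hcon
        have : f = 1 := by omega
        rw [hF, hp2, this] at hq3
        norm_num at hq3
      rcases Nat.lt_or_ge f 5 with hf5 | hf5
      · interval_cases f
        · -- `q = 4`
          have hq : Fintype.card F = 4 := by rw [hF, hp2]; norm_num
          rw [hq] at hk
          exact special (by norm_num) hs hna hq ho (k := 243) (b := 11) (by omega)
            (by decide +kernel) (by norm_num)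
        · have hq : Fintype.card F = 8 := by rw [hF, hp2]; norm_num
          rw [hq] at hk
          exact special (by norm_num) hs hna hq ho (k := 972) (b := 14) (by omega)
            (by decide +kernel) (by norm_num)
        · have hq : Fintype.card F = 16 := by rw [hF, hp2]; norm_num
          rw [hq] at hk hidx
          refine IdxOK.of_k ho (k := 3891) (by omega) hidx (by norm_num)
      · have hq32 : 32 ≤ Fintype.card F := by
          rw [hF, hp2]
          calc 32 = 2 ^ 5 := by norm_num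
            _ ≤ 2 ^ f := Nat.pow_le_pow_right (by norm_num) hf5
        refine fin hidx ?_
        have h4 := cube_le (m := Fintype.card F) (by omega)
        have e : Fintype.card F ^ (2 - 1) = Fintype.card F := by norm_num
        rw [e]
        have h5 : 5 * (Nat.card (Cfsg.Out (Cfsg.PSp 2 F)) *
            Nat.card (ConjClasses (Cfsg.PSp 2 F))) ≤ 76 * Fintype.card F ^ 3 := by
          calc 5 * (Nat.card (Cfsg.Out (Cfsg.PSp 2 F)) * Nat.card (ConjClasses (Cfsg.PSp 2 F)))
              = Nat.card (Cfsg.Out (Cfsg.PSp 2 F)) *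
                (5 * Nat.card (ConjClasses (Cfsg.PSp 2 F))) := by ring
            _ ≤ Fintype.card F * (76 * Fintype.card F ^ 2) := Nat.mul_le_mul (by omega) hk
            _ = _ := by ring
        omega
    · have ho1 := ho' hp2 (by omega)
      by_cases h16 : 16 ≤ Fintype.card F ^ (m - 1)
      · refine fin hidx (num_ge (c := 76) hm ?_ hk ?_ h16)
        · omega
        · exact Nat.pow_le_pow_right (by omega) (by omega)
      · push Not at h16
        have hf1 : f = 1 := by
          by_contra hne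
          have h4 : 4 ≤ Fintype.card F := by
            rw [hF, hp2]
            calc 4 = 2 ^ 2 := by norm_num
              _ ≤ 2 ^ f := Nat.pow_le_pow_right (by norm_num) (by omega)
          have h5 : 4 ^ 2 ≤ Fintype.card F ^ (m - 1) := (Nat.pow_le_pow_left h4 2).trans
            (Nat.pow_le_pow_right (by omega) (by omega))
          omega
        have hq : Fintype.card F = 2 := by rw [hF, hp2, hf1]; norm_num
        have hm5 : m < 5 := by
          by_contra hcon
          rw [hq] at h16
          have : 2 ^ 4 ≤ 2 ^ (m - 1) := Nat.pow_le_pow_right (by norm_num) (by omega)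
          omega
        rw [hf1] at ho1
        rw [hq] at hk
        interval_cases m
        · exact special (by norm_num) hs hna hq ho1 (k := 121) (b := 8) (by omega)
            (by decide +kernel) (by norm_num)
        · exact special (by norm_num) hs hna hq ho1 (k := 243) (b := 9) (by omega)
            (by decide +kernel) (by norm_num)
  · -- `q` odd
    have hodd : Odd (Fintype.card F) := by rw [hF]; exact hpo.pow
    have hk : 5 * Nat.card (ConjClasses (Cfsg.PSp m F)) ≤ 54 * Fintype.card F ^ m :=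
      (Nat.mul_le_mul_left _ hk0).trans (S2482.result (F := F) hodd m (by omega)).2
    have hp3 : 3 ≤ p := by
      have h2 := hp.two_le
      obtain ⟨k, hk⟩ := hpo
      omega
    rcases hm.eq_or_lt with rfl | hm3
    · -- `m = 2`
      by_cases hf1 : f = 1
      · subst hf1
        rw [pow_one] at hF
        rcases Nat.lt_or_ge (Fintype.card F) 13 with h13 | h13
        · have hpp : p = 3 ∨ p = 5 ∨ p = 7 ∨ p = 11 := by
            rw [hF] at h13
            interval_cases p <;> first | (clear * -; omega) | (exfalso; revert hp; norm_num)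
          rcases hpp with h | h | h | h <;> rw [h] at hF <;> rw [hF] at hk
          · exact special (by norm_num) hs hna hF ho (k := 97) (b := 9) (by omega)
              (by decide +kernel) (by norm_num)
          · exact special (by norm_num) hs hna hF ho (k := 270) (b := 11) (by omega)
              (by decide +kernel) (by norm_num)
          · exact special (by norm_num) hs hna hF ho (k := 529) (b := 12) (by omega)
              (by decide +kernel) (by norm_num)
          · exact special (by norm_num) hs hna hF ho (k := 1306) (b := 13) (by omega)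
              (by decide +kernel) (by norm_num)
        · refine fin hidx ?_
          have h4 := sq_le' h13
          have e : Fintype.card F ^ (2 - 1) = Fintype.card F := by norm_num
          rw [e]
          have h5 : 5 * (Nat.card (Cfsg.Out (Cfsg.PSp 2 F)) *
              Nat.card (ConjClasses (Cfsg.PSp 2 F))) ≤ 108 * Fintype.card F ^ 2 := by
            calc 5 * (Nat.card (Cfsg.Out (Cfsg.PSp 2 F)) * Nat.card (ConjClasses (Cfsg.PSp 2 F)))
                = Nat.card (Cfsg.Out (Cfsg.PSp 2 F)) *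
                  (5 * Nat.card (ConjClasses (Cfsg.PSp 2 F))) := by ring
              _ ≤ 2 * (54 * Fintype.card F ^ 2) := Nat.mul_le_mul (by omega) hk
              _ = _ := by ring
          omega
      · by_cases hq9 : Fintype.card F = 9
        · have hf2' : f = 2 := by
            have h4 : p ∣ 9 := by rw [← hq9, hF]; exact dvd_pow_self p (by omega)
            have h5 : p = 3 := (Nat.prime_dvd_prime_iff_eq hp Nat.prime_three).1
              (hp.dvd_of_dvd_pow (by norm_num; exact h4 : p ∣ 3 ^ 2))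
            rw [h5, hq9] at hF
            exact (Nat.pow_right_injective (by norm_num : 2 ≤ 3)
              (show 3 ^ f = 3 ^ 2 from hF.symm))
          rw [hf2'] at ho
          rw [hq9] at hk
          exact special (by norm_num) hs hna hq9 ho (k := 874) (b := 13) (by omega)
            (by decide +kernel) (by norm_num)
        · have hq25 : 24 ≤ Fintype.card F := by
            by_cases hp33 : p = 3
            · have hf3 : 3 ≤ f := by
                by_contra hcon
                have : f = 2 := by omega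
                apply hq9
                rw [hF, hp33, this]
                norm_num
              rw [hF, hp33]
              calc 24 ≤ 3 ^ 3 := by norm_num
                _ ≤ 3 ^ f := Nat.pow_le_pow_right (by norm_num) hf3
            · have hp5 : 5 ≤ p := by
                have h4 : p ≠ 4 := by rintro rfl; revert hp; norm_num
                omega
              rw [hF]
              calc 24 ≤ 5 ^ 2 := by norm_num
                _ ≤ p ^ 2 := Nat.pow_le_pow_left hp5 2
                _ ≤ p ^ f := Nat.pow_le_pow_right (by omega) (by omega)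
          refine fin hidx ?_
          have h4 := cube_le hq25
          have e : Fintype.card F ^ (2 - 1) = Fintype.card F := by norm_num
          rw [e]
          have h5 : 5 * (Nat.card (Cfsg.Out (Cfsg.PSp 2 F)) *
              Nat.card (ConjClasses (Cfsg.PSp 2 F))) ≤ 54 * Fintype.card F ^ 3 := by
            calc 5 * (Nat.card (Cfsg.Out (Cfsg.PSp 2 F)) * Nat.card (ConjClasses (Cfsg.PSp 2 F)))
                = Nat.card (Cfsg.Out (Cfsg.PSp 2 F)) *
                  (5 * Nat.card (ConjClasses (Cfsg.PSp 2 F))) := by ring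
              _ ≤ Fintype.card F * (54 * Fintype.card F ^ 2) := Nat.mul_le_mul (by omega) hk
              _ = _ := by ring
          omega
    · by_cases h16 : 16 ≤ Fintype.card F ^ (m - 1)
      · refine fin hidx (num_ge (c := 54) hm ?_ hk ?_ h16)
        · omega
        · exact Nat.pow_le_pow_right (by omega) (by omega)
      · push Not at h16
        have hq3 : Fintype.card F = 3 := by
          by_contra hne
          have h4 : 4 ≤ Fintype.card F := by
            have : 3 ≤ Fintype.card F := by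
              rw [hF]; exact hp3.trans (Nat.le_self_pow (by omega) _)
            omega
          have h5 : 4 ^ 2 ≤ Fintype.card F ^ (m - 1) := (Nat.pow_le_pow_left h4 2).trans
            (Nat.pow_le_pow_right (by omega) (by omega))
          omega
        have hm3' : m = 3 := by
          by_contra hne
          rw [hq3] at h16
          have : 3 ^ 3 ≤ 3 ^ (m - 1) := Nat.pow_le_pow_right (by norm_num) (by omega)
          omega
        subst hm3'
        have hf1 : f = 1 := by omega
        rw [hf1] at ho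
        rw [hq3] at hk
        exact special (by norm_num) hs hna hq3 ho (k := 291) (b := 11) (by omega)
          (by decide +kernel) (by norm_num)

theorem row : RowOf (fun T _ => Cfsg.IsPSp T) := by
  rintro T _ _ _ hT ⟨F, _, _, m, hm, h3, ⟨e⟩⟩
  have hs : IsSimpleGroup (Cfsg.PSp m F) := (MulEquiv.isSimpleGroup_congr e).1 inferInstance
  have hna : ¬ IsMulCommutative (Cfsg.PSp m F) := by
    intro h
    apply hT
    refine ⟨⟨fun a b => ?_⟩⟩
    apply e.injective
    rw [map_mul, map_mul]
    exact h.is_comm.comm _ _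
  exact (main hm h3 hs hna).congr e.symm

end Cfsg.Agent.H539.RowPSp
end
end

-- part: H599/IdxD4T
section
set_option linter.all false
open scoped Cfsg.Agent.FastGrp

/-!
# `IdxOK` for `³D₄(q)`
-/

set_option autoImplicit false

namespace Cfsg.Agent.H599.IdxD4T

open Cfsg.Lie Cfsg.Agent.H539 Cfsg.Agent.H599.IdxE Cfsg.Agent.H599.IdxJor

universe u

theorem twD4 {K : Type u} [Field K] [Fintype K] {q : ℕ} (hq : IsPrimePow q) (hK : Fintype.card K = q ^ 3)
    (hs : IsSimpleGroup ↥(twistedD4 K q)) (hna : ¬ IsMulCommutative ↥(twistedD4 K q)) : IdxOK ↥(twistedD4 K q) := by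
  have : Finite (GL chevD4.Idx K) := inferInstance
  have hb := H934.IdxTwD4.card_le_index hq hK hs
  have hcard := S1067.result (K := K) hq hK
  obtain ⟨p, f, hp, hf, hqe⟩ := (isPrimePow_nat_iff _).1 hq
  have : Fact p.Prime := ⟨hp⟩
  have hcp : CharP K p := by
    obtain ⟨p', hp'⟩ := CharP.exists K
    obtain ⟨k, hpp, hk⟩ := FiniteField.card K p'
    have h1 : p' ∣ p := hpp.dvd_of_dvd_pow (n := f * 3) (by
      rw [pow_mul, hqe, ← hK, hk]; exact dvd_pow_self p' k.pos.ne')
    rwa [← (Nat.prime_dvd_prime_iff_eq hpp hp).1 h1]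
  have hout : Nat.card (Cfsg.Out ↥(twistedD4 K q)) = 3 * f := by
    subst hqe
    exact S2129.result p f (by rw [hK, ← pow_mul, mul_comm]) hf
  have hq2 : 2 ≤ q := hq.one_lt
  have hfq : f < q := hqe ▸ Nat.lt_pow_self hp.one_lt
  have ho : Nat.card (Cfsg.Out ↥(twistedD4 K q)) ≤ 3 * (q - 1) := by rw [hout]; omega
  rcases Nat.lt_or_ge q 5 with h5 | h5
  · interval_cases q
    · have hc : Nat.card ↥(twistedD4 K 2) = 211341312 := hcard.trans (by norm_num)
      exact IdxOK.of_bound hna ho hc.le (b := 26) (by norm_num)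
        (le_index_of_check hna hc (P := [13]) (by norm_num) t3) (by norm_num)
    · have hc : Nat.card ↥(twistedD4 K 3) = 20560831566912 := hcard.trans (by norm_num)
      exact IdxOK.of_card ho hc.le (prime_le_index hna (p := 73) (by norm_num) (by rw [hc]; norm_num)) (by norm_num)
    · have hc : Nat.card ↥(twistedD4 K 4) = 67802350642790400 := hcard.trans (by norm_num)
      exact IdxOK.of_card ho hc.le hb (by norm_num)
  · have ht : Nat.card ↥(twistedD4 K q) ≤ q ^ 28 := by
      have e1 : (q ^ 2 - 1) * (q ^ 8 + q ^ 4 + 1) ≤ q ^ 10 := by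
        have h1 : 1 ≤ q ^ 2 := Nat.one_le_pow _ _ (by omega)
        obtain ⟨r, hr⟩ : ∃ r, q ^ 2 = r + 1 := ⟨q ^ 2 - 1, by omega⟩
        have e8 : q ^ 8 = (r + 1) ^ 4 := by rw [← hr]; ring
        have e4 : q ^ 4 = (r + 1) ^ 2 := by rw [← hr]; ring
        have e10 : q ^ 10 = (r + 1) ^ 5 := by rw [← hr]; ring
        rw [hr, e8, e4, e10, Nat.add_sub_cancel]
        nlinarith [Nat.zero_le r, Nat.zero_le (r ^ 2), Nat.zero_le (r ^ 3), Nat.zero_le (r ^ 4)]
      calc Nat.card ↥(twistedD4 K q) = q ^ 12 * ((q ^ 2 - 1) * (q ^ 8 + q ^ 4 + 1)) * (q ^ 6 - 1) := by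
            rw [hcard]; ring
        _ ≤ q ^ 12 * q ^ 10 * q ^ 6 := Nat.mul_le_mul (Nat.mul_le_mul_left _ e1) (Nat.sub_le _ _)
        _ = _ := by ring
    refine of_pow (q := q) (N := 31) (b := q ^ 3) (by omega) ?_ hb ?_
    · calc _ ≤ (3 * (q - 1)) * q ^ 28 := Nat.mul_le_mul ho ht
        _ ≤ q ^ 3 * q ^ 28 := by
          apply Nat.mul_le_mul_right
          have : 25 * q ≤ q ^ 3 := by rw [pow_succ]; exact Nat.mul_le_mul_right _ (Nat.pow_le_pow_left h5 2)
          omega
        _ = _ := by ring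
    · obtain ⟨r, rfl⟩ : ∃ r, q = r + 5 := ⟨q - 5, by omega⟩
      have h1 : (r + 5) ^ 3 = r ^ 3 + 15 * r ^ 2 + 75 * r + 125 := by ring
      have h2 : (0 : ℕ) ≤ r ^ 3 := Nat.zero_le _
      have h3 : (0 : ℕ) ≤ 15 * r ^ 2 := Nat.zero_le _
      omega

theorem row : RowOf (fun T _ => Cfsg.Lie.Iso3D4 T) := by
  rintro T _ _ _ hT ⟨K, _, _, q, hq, hK, ⟨e⟩⟩
  exact RowsA.of_equiv hT e fun h h' => twD4 hq hK h h'

end Cfsg.Agent.H599.IdxD4T
end
end
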